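import Cfsg.Agent.H619.BD.KData
import Cfsg.Agent.H90.R4.HS
import Cfsg.Agent.H819.K4.HSCol

/-!
# S4932, sporadic rows: `HS`, `p = 2` (helper680, task 5012)

Rational characters of degrees 77 and 175.
-/

set_option autoImplicit false

namespace Cfsg.Agent.H680.BD

open Cfsg Cfsg.Agent.H619.BD Cfsg.Agent.H619.R4

universe u

theorem kd_hs {S : Type u} [Group S] (h : Spor.IsoHS S) : KD 2 S := by
  obtain ⟨e⟩ := h
  obtain ⟨⟨f⟩, -⟩ := Cfsg.Agent.HN.AutHS.nonempty_Q
  have hc : Nat.card Spor.HS = 44352000 := Cfsg.Agent.H665.SporCo.card_HS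
  have : Finite Spor.HS := Nat.finite_of_card_ne_zero (by rw [hc]; norm_num)
  obtain ⟨χ, h1, h2, h3, -⟩ := Cfsg.Agent.H819.K4.HSCol.exists_175
  have b175 : B0D 2 Spor.HS 175 := (B0D.of_rat h1 h3 h2 (by decide)).congr f
  have b77 : B0D 2 Spor.HS 77 := B0D.of_real Cfsg.Agent.H90.R4.HS.rc77 (by decide)
  have k : KD 2 Spor.HS := KD.common 7 b77 b175 (by norm_num) (by norm_num) (by norm_num) (by norm_num) (by norm_num)
    (by norm_num) (by norm_num) (by norm_num) (by norm_num)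
  exact k.congr e.symm

end Cfsg.Agent.H680.BD
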